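import Mathlib
import Groth.Agent.FlatDim.Trdeg

/-!
# Dimensions of schemes over a field through transcendence degrees of points
-/

set_option autoImplicit false
set_option linter.style.haveILetI false
universe u

open CategoryTheory AlgebraicGeometry Topology TopologicalSpace Groth.Agent.DimFormulaLib

namespace Groth.Agent.FibDimLib

variable {k : Type u} [Field k] {X : Scheme.{u}}

theorem krullDim_points (X : Scheme.{u}) : topologicalKrullDim ↥X = Order.krullDim ↥X :=
  Order.krullDim_eq_of_orderIso irreducibleSetEquivPoints

theorem le_dim (q : X ⟶ Spec (CommRingCat.of k)) [LocallyOfFiniteType q] (x : X) (t : ℕ)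
    (ht : resTrdegAt q x = t) : (t : WithBot ℕ∞) ≤ topologicalKrullDim ↥X := by
  obtain ⟨t', ht', hd⟩ := FlatDim.topologicalKrullDim_closure k q x
  have : t = t' := by exact_mod_cast ht.symm.trans ht'
  rw [this, ← hd]
  exact topologicalKrullDim_subspace_le _ _

theorem exists_point (q : X ⟶ Spec (CommRingCat.of k)) [LocallyOfFiniteType q] (n : ℕ)
    (hn : (n : WithBot ℕ∞) ≤ topologicalKrullDim ↥X) :
    ∃ (x : X) (t : ℕ), resTrdegAt q x = t ∧ n ≤ t := by
  rw [krullDim_points] at hn
  obtain ⟨l, hl⟩ := Order.le_krullDim_iff.1 hn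
  obtain ⟨a, t, -, ht, -, hh⟩ := field_dims q l.last
  refine ⟨l.last, t, ht, ?_⟩
  have := Order.length_le_height_last (p := l)
  rw [hl, hh] at this
  exact_mod_cast this

/-- Every point specializes from a maximal point of at least the same transcendence degree. -/
theorem exists_maximal (q : X ⟶ Spec (CommRingCat.of k)) [LocallyOfFiniteType q] (x : X) (t : ℕ)
    (ht : resTrdegAt q x = t) :
    ∃ (η : X) (s : ℕ), (∀ y : X, y ⤳ η → y = η) ∧ resTrdegAt q η = s ∧ t ≤ s := by
  obtain ⟨η, hη⟩ := QuasiSober.sober (isIrreducible_irreducibleComponent (x := x)) isClosed_irreducibleComponent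
  obtain ⟨a, s, -, hs, -, hh⟩ := field_dims q η
  obtain ⟨b, t', -, ht', -, hh'⟩ := field_dims q x
  refine ⟨η, s, fun y hy => ?_, hs, ?_⟩
  · have hsub : irreducibleComponent x ⊆ closure {y} :=
      hη.def ▸ closure_minimal (Set.singleton_subset_iff.2 (specializes_iff_mem_closure.1 hy)) isClosed_closure
    have heq : closure {y} = irreducibleComponent x :=
      ((irreducibleComponent_mem_irreducibleComponents x).eq_of_subset isIrreducible_singleton.closure hsub).symm
    exact (isGenericPoint_def.2 heq).eq hη
  · have h1 : Order.height x ≤ Order.height η :=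
      Order.height_mono (Scheme.le_iff_specializes.2 (hη.specializes mem_irreducibleComponent))
    rw [hh', hh] at h1
    have : t = t' := by exact_mod_cast ht.symm.trans ht'
    rw [this]
    exact_mod_cast h1

end Groth.Agent.FibDimLib
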